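import Cfsg.Prelude.Def_SporadicB
import Cfsg.Agent.CosetCert.Sp44.InHe
import Cfsg.Agent.CosetCert.Fi22Order.Main
import Cfsg.Agent.Fi22U62Iso.Main

/-!
The class of 3510 transpositions of the presented group Fi22: the point stabiliser of the table of
degree 3510 is the centraliser of the generator `a`, and two representatives of the suborbits
show that a product of two conjugates has order at most three.
-/

set_option autoImplicit false
set_option Elab.async false

namespace Cfsg.Agent.Fi22Trans

open Cfsg.Agent.CosetCert Cfsg.Agent.CosetCert.Fi22U62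

/-- The presented group. -/
abbrev G : Type := Cfsg.Spor.Fi22

/-- The relators. -/
abbrev rels : Set (FreeGroup Cfsg.Spor.Fi22.Gen) :=
  Cfsg.Spor.coxRelators Cfsg.Spor.Fi22.edges ∪ {r | r ∈ Cfsg.Spor.Fi22.extra}

/-- The subgroup of index 3510. -/
abbrev H : Subgroup G := Data.sub rels subGens

/-- The element of a word. -/
abbrev el (l : List (Cfsg.Spor.Fi22.Gen × Bool)) : G := PresentedGroup.mk rels (FreeGroup.mk l)

/-- The transposition. -/
abbrev t : G := el [(.a, true)]

/-- The representative for the suborbit of length 2816. -/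
def rep1 : List (Cfsg.Spor.Fi22.Gen × Bool) := [(.b, true)]

/-- The representative for the suborbit of length 693. -/
def rep0 : List (Cfsg.Spor.Fi22.Gen × Bool) := [(.b, true), (.a, true), (.c, true), (.b, true)]

/-- The word of `t * (w⁻¹ * t * w)`. -/
def prodWord (w : List (Cfsg.Spor.Fi22.Gen × Bool)) : List (Cfsg.Spor.Fi22.Gen × Bool) :=
  [(.a, true)] ++ (FreeGroup.invRev w ++ [(.a, true)] ++ w)

theorem el_prodWord (w : List (Cfsg.Spor.Fi22.Gen × Bool)) :
    el (prodWord w) = t * ((el w)⁻¹ * t * el w) := by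
  simp only [el, prodWord, ← FreeGroup.mul_mk, ← FreeGroup.inv_mk, map_mul, map_inv]

/-- The codes of a word. -/
noncomputable def codes (l : List (Cfsg.Spor.Fi22.Gen × Bool)) : List Nat :=
  l.map (Data.code data.iv enc)

/-- A word moves no point of the table. -/
noncomputable def isId (l : List (Cfsg.Spor.Fi22.Gen × Bool)) : Bool :=
  allFrom (fun c => Nat.beq (data.fwd (codes l) c) c) 0 3510

/-- The word of the commutator of `t` with a word. -/
def commWord (l : List (Cfsg.Spor.Fi22.Gen × Bool)) : List (Cfsg.Spor.Fi22.Gen × Bool) :=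
  [(.a, true)] ++ l ++ [(.a, true)] ++ FreeGroup.invRev l

theorem t_check : isId [(.a, true), (.a, true)] = true ∧ isId [(.a, true)] = false := by
  constructor <;> decide +kernel

theorem comm_check : (subGens.all fun s => isId (commWord s.toWord)) = true := by decide +kernel

theorem rep_check : (isId (prodWord rep0 ++ prodWord rep0) = true ∧ isId (prodWord rep0) = false) ∧
    (isId (prodWord rep1 ++ prodWord rep1 ++ prodWord rep1) = true ∧ isId (prodWord rep1) = false) := by
  refine ⟨⟨?_, ?_⟩, ?_, ?_⟩ <;> decide +kernel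

theorem rep_root : data.fwd (codes rep0) 0 = 6 ∧ data.fwd (codes rep1) 0 = 1 := by
  constructor <;> decide +kernel

theorem isId_iff (l : List (Cfsg.Spor.Fi22.Gen × Bool)) : isId l = true ↔ el l = 1 := by
  obtain ⟨φ, π, hπ, hfwd⟩ := Data.enumeration valid spells
  have hinj : Function.Injective φ :=
    (Data.order_eq valid spells φ hfwd Fi22Order.card_bound.1 Fi22Order.card_bound.2
      Fi22Order.levels Fi22Order.levels_ok (by decide +kernel)).1
  rw [isId, allFrom_iff]
  constructor
  · intro h
    apply hinj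
    rw [map_one]
    apply inv_injective
    ext c
    rw [inv_one, Equiv.Perm.one_apply]
    exact (hfwd l c).trans
      (Nat.eq_of_beq_eq_true (h c (Nat.zero_le _) (by rw [Nat.zero_add]; exact c.2)))
  · intro h c _ hc
    rw [Nat.zero_add] at hc
    have h2 := hfwd l ⟨c, hc⟩
    rw [show PresentedGroup.mk rels (FreeGroup.mk l) = 1 from h, map_one, inv_one,
      Equiv.Perm.one_apply] at h2
    exact (congrArg (fun x => Nat.beq x c) h2.symm).trans (Nat.beq_refl c)

theorem el_ne_one {l : List (Cfsg.Spor.Fi22.Gen × Bool)} (h : isId l = false) : el l ≠ 1 :=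
  fun h1 => Bool.false_ne_true (h ▸ (isId_iff l).2 h1)

theorem t_sq : t * t = 1 := by
  have := (isId_iff _).1 t_check.1
  rw [← this]
  simp only [el, ← map_mul, FreeGroup.mul_mk, List.cons_append, List.nil_append]

theorem t_inv : t⁻¹ = t := inv_eq_of_mul_eq_one_right t_sq

theorem le_centralizer : H ≤ Subgroup.centralizer ({t} : Set G) := by
  show (Subgroup.closure {s | s ∈ subGens}).map (PresentedGroup.mk rels) ≤ _
  rw [MonoidHom.map_closure, Subgroup.closure_le]
  rintro _ ⟨s, hs, rfl⟩
  have h := (isId_iff _).1 (List.all_eq_true.1 comm_check s hs)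
  simp only [el, commWord, ← FreeGroup.mul_mk, ← FreeGroup.inv_mk, map_mul, map_inv,
    FreeGroup.mk_toWord, mul_inv_eq_one] at h
  rw [SetLike.mem_coe, Subgroup.mem_centralizer_singleton_iff]
  calc PresentedGroup.mk rels s * t
      = t * t * (PresentedGroup.mk rels s * t) := by rw [t_sq, one_mul]
    _ = t * (t * PresentedGroup.mk rels s * t) := by simp only [mul_assoc]
    _ = t * PresentedGroup.mk rels s := by rw [h]

/-- The two conjugates, up to the subgroup. -/
theorem cases_conj (z : G) : z ∈ H ∨ ∃ h ∈ H, ∃ w ∈ ([rep0, rep1] : List _),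
    z * t * z⁻¹ = h * ((el w)⁻¹ * t * el w) * h⁻¹ := by
  obtain ⟨φ, π, hπ, hfwd⟩ := Data.enumeration valid spells
  have hstab := Data.apply_base_iff valid spells φ π hπ hfwd
  let c0 : Fin data.n := ⟨0, valid.n_pos⟩
  rcases Fi22Order.suborbits.cover (φ z c0) (φ z c0).2 with h0 | ⟨o, ho, hc⟩
  · exact Or.inl ((hstab z).1 (Fin.ext h0))
  · refine Or.inr ?_
    obtain ⟨⟨hroot, hQ⟩, hok⟩ := Fi22Order.suborbits.ok o ho
    have e := Data.orbit_eq valid spells φ π hπ hfwd o.set o.root o.back ⟨hroot, hQ⟩ hok
    have hmem : π (φ z c0) ∈ MulAction.orbit H (π ⟨o.root, hroot⟩) := by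
      rw [e]; exact ⟨φ z c0, hc, rfl⟩
    obtain ⟨⟨h, hh⟩, hhc⟩ := hmem
    have hhc' : φ h ⟨o.root, hroot⟩ = φ z c0 := π.injective ((hπ _ _).trans hhc)
    have hw : ∃ w ∈ ([rep0, rep1] : List _), data.fwd (codes w) 0 = o.root := by
      simp only [Fi22Order.suborbitList, List.mem_cons, List.not_mem_nil, or_false] at ho
      rcases ho with rfl | rfl
      · exact ⟨rep0, List.mem_cons_self .., rep_root.1⟩
      · exact ⟨rep1, List.mem_cons_of_mem _ (List.mem_cons_self ..), rep_root.2⟩
    obtain ⟨w, hwm, hwr⟩ := hw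
    refine ⟨h, hh, w, hwm, ?_⟩
    have hk : (el w) * h⁻¹ * z ∈ H := by
      refine (hstab _).1 ?_
      show φ (el w * h⁻¹ * z) c0 = c0
      have h1 : (φ (el w))⁻¹ c0 = ⟨o.root, hroot⟩ := Fin.ext ((hfwd w c0).trans hwr)
      rw [map_mul, map_mul, map_inv, Equiv.Perm.mul_apply, Equiv.Perm.mul_apply, ← hhc',
        ← Equiv.Perm.mul_apply (φ h)⁻¹, inv_mul_cancel, Equiv.Perm.one_apply]
      exact (Equiv.Perm.inv_eq_iff_eq.1 h1).symm
    have hcomm := Subgroup.mem_centralizer_singleton_iff.1 (le_centralizer hk)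
    have hz : z = h * (el w)⁻¹ * (el w * h⁻¹ * z) := by group
    calc z * t * z⁻¹ = h * (el w)⁻¹ * ((el w * h⁻¹ * z) * t) * (h * (el w)⁻¹ * (el w * h⁻¹ * z))⁻¹ := by
          rw [← hz]; group
      _ = h * ((el w)⁻¹ * t * el w) * h⁻¹ := by rw [hcomm]; group

theorem pow_prod (w : List (Cfsg.Spor.Fi22.Gen × Bool)) (hw : w ∈ ([rep0, rep1] : List _)) :
    ((el (prodWord w)) ^ 2 = 1 ∨ (el (prodWord w)) ^ 3 = 1) ∧ el (prodWord w) ≠ 1 := by
  simp only [List.mem_cons, List.not_mem_nil, or_false] at hw
  rcases hw with rfl | rfl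
  · refine ⟨Or.inl ?_, el_ne_one rep_check.1.2⟩
    have := (isId_iff _).1 rep_check.1.1
    simpa only [el, ← FreeGroup.mul_mk, map_mul, pow_two] using this
  · refine ⟨Or.inr ?_, el_ne_one rep_check.2.2⟩
    have := (isId_iff _).1 rep_check.2.1
    simpa only [el, ← FreeGroup.mul_mk, map_mul, pow_succ, pow_zero, one_mul] using this

theorem centralizer_eq : Subgroup.centralizer ({t} : Set G) = H := by
  refine le_antisymm (fun z hz => ?_) le_centralizer
  rcases cases_conj z with h | ⟨h, hh, w, hw, e⟩
  · exact h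
  · exfalso
    apply (pow_prod w hw).2
    have hzt := Subgroup.mem_centralizer_singleton_iff.1 hz
    have hht := Subgroup.mem_centralizer_singleton_iff.1 (le_centralizer hh)
    rw [hzt, mul_inv_cancel_right] at e
    have h2 : t = (el w)⁻¹ * t * el w := by
      calc t = h⁻¹ * (h * t) := by group
        _ = h⁻¹ * (t * h) := by rw [hht]
        _ = h⁻¹ * ((h * ((el w)⁻¹ * t * el w) * h⁻¹) * h) := by rw [← e]
        _ = (el w)⁻¹ * t * el w := by group
    rw [el_prodWord, ← h2, t_sq]

theorem orderOf_t : orderOf t = 2 :=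
  orderOf_eq_prime (by rw [pow_two, t_sq]) (el_ne_one t_check.2)

/-- A product of the transposition with a conjugate has order at most three. -/
theorem pow_conj (z : G) : (t * (z * t * z⁻¹)) ^ 2 = 1 ∨ (t * (z * t * z⁻¹)) ^ 3 = 1 := by
  rcases cases_conj z with h | ⟨h, hh, w, hw, e⟩
  · left
    have := Subgroup.mem_centralizer_singleton_iff.1 (le_centralizer h)
    rw [this, mul_inv_cancel_right, t_sq, one_pow]
  · have hht := Subgroup.mem_centralizer_singleton_iff.1 (le_centralizer hh)
    have e2 : t * (z * t * z⁻¹) = h * el (prodWord w) * h⁻¹ := by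
      rw [e, el_prodWord, ← mul_assoc h t, hht]
      group
    rw [e2, conj_pow, conj_pow, conj_eq_one_iff, conj_eq_one_iff]
    exact (pow_prod w hw).1

/-- A non-split double cover carried along an isomorphism. -/
theorem doubleCover_congr {A B K : Type*} [Group A] [Group B] [Group K] (e : A ≃* B)
    (h : Cfsg.IsNonsplitDoubleCover A K) : Cfsg.IsNonsplitDoubleCover B K := by
  obtain ⟨h1, ⟨q⟩, h3⟩ := h
  have hmap : (Subgroup.center A).map e.toMonoidHom = Subgroup.center B := by
    ext b
    simp only [Subgroup.mem_map, Subgroup.mem_center_iff]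
    constructor
    · rintro ⟨a, ha, rfl⟩ g
      obtain ⟨x, rfl⟩ := e.surjective g
      rw [MulEquiv.toMonoidHom_eq_coe, MonoidHom.coe_coe, ← map_mul, ← map_mul, ha]
    · intro hb
      refine ⟨e.symm b, fun g => e.injective ?_, e.apply_symm_apply b⟩
      rw [map_mul, map_mul, e.apply_symm_apply, hb]
  refine ⟨?_, ⟨(QuotientGroup.congr _ _ e hmap).symm.trans q⟩, fun L hL => ?_⟩
  · rw [← hmap, Subgroup.card_map_of_injective e.injective, h1]
  · refine h3 (L.comap e.toMonoidHom) ?_
    have hback : (Subgroup.center B).comap e.toMonoidHom = Subgroup.center A := by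
      rw [← hmap, Subgroup.comap_map_eq_self_of_injective e.injective]
    rw [← hback]
    refine Subgroup.isComplement'_of_disjoint_and_mul_eq_univ ?_ ?_
    · rw [disjoint_iff, ← Subgroup.comap_inf, hL.disjoint.eq_bot, MonoidHom.comap_bot]
      exact MonoidHom.ker_eq_bot_iff _ |>.2 e.injective
    · refine Set.eq_univ_of_forall fun a => ?_
      obtain ⟨⟨c, l⟩, hcl⟩ := hL.2 (e a)
      refine ⟨e.symm c, ?_, e.symm l, ?_, e.injective ?_⟩
      · show e (e.symm c) ∈ Subgroup.center B
        rw [e.apply_symm_apply]; exact c.2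
      · show e (e.symm l) ∈ L
        rw [e.apply_symm_apply]; exact l.2
      · show e (e.symm c * e.symm l) = e a
        rw [map_mul, e.apply_symm_apply, e.apply_symm_apply]; exact hcl

theorem isClass : Cfsg.IsThreeTranspositionClass (conjugatesOf t) ∧
    Nat.card (conjugatesOf t) = 3510 ∧
    ∀ d ∈ conjugatesOf t, Cfsg.IsNonsplitDoubleCover (Subgroup.centralizer ({d} : Set G))
      (Cfsg.PSU 6 Fi22U62Iso.K 2) := by
  refine ⟨⟨⟨?_, ?_⟩, ⟨t, mem_conjugatesOf_self, rfl⟩, ?_⟩, ?_, ?_⟩
  · intro d hd
    obtain ⟨c, rfl⟩ := isConj_iff.1 hd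
    rw [← MulAut.conj_apply, MulEquiv.orderOf_eq]
    exact orderOf_t
  · intro d hd e he
    obtain ⟨x, rfl⟩ := isConj_iff.1 hd
    obtain ⟨y, rfl⟩ := isConj_iff.1 he
    have h : x * t * x⁻¹ * (y * t * y⁻¹) = x * (t * ((x⁻¹ * y) * t * (x⁻¹ * y)⁻¹)) * x⁻¹ := by group
    rw [h, conj_pow, conj_pow, conj_eq_one_iff, conj_eq_one_iff]
    exact pow_conj _
  · have hs := Fi22Order.order_and_simple.1
    have hn : (Subgroup.closure (conjugatesOf t)).Normal := by
      have : Subgroup.closure (conjugatesOf t) = Subgroup.normalClosure {t} := by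
        rw [Subgroup.normalClosure, Group.conjugatesOfSet]
        simp
      rw [this]
      infer_instance
    rcases hs.eq_bot_or_eq_top_of_normal _ hn with h | h
    · exfalso
      have : t ∈ (⊥ : Subgroup G) := h ▸ Subgroup.subset_closure mem_conjugatesOf_self
      exact el_ne_one t_check.2 (Subgroup.mem_bot.1 this)
    · exact h
  · have h1 : conjugatesOf t = MulAction.orbit (ConjAct G) t := by
      ext d
      rw [ConjAct.mem_orbit_conjAct, isConj_comm]
      rfl
    rw [h1, Nat.card_coe_set_eq, ← MulAction.index_stabilizer]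
    have h2 : (MulAction.stabilizer (ConjAct G) t).comap (ConjAct.toConjAct (G := G)).toMonoidHom = H := by
      rw [← centralizer_eq]
      ext g
      simp only [Subgroup.mem_comap, MulAction.mem_stabilizer_iff, MulEquiv.toMonoidHom_eq_coe,
        MonoidHom.coe_coe, ConjAct.toConjAct_smul, Subgroup.mem_centralizer_singleton_iff]
      exact mul_inv_eq_iff_eq_mul
    rw [← index_val, ← show H.index = (MulAction.stabilizer (ConjAct G) t).index from
      h2 ▸ Subgroup.index_comap_of_surjective _ ConjAct.toConjAct.surjective]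
  · intro d hd
    obtain ⟨x, rfl⟩ := isConj_iff.1 hd
    have hc : (Subgroup.centralizer ({t} : Set G)).map (MulAut.conj x).toMonoidHom =
        Subgroup.centralizer ({x * t * x⁻¹} : Set G) := by
      ext g
      rw [Subgroup.mem_map_equiv, Subgroup.mem_centralizer_singleton_iff,
        Subgroup.mem_centralizer_singleton_iff, MulAut.conj_symm_apply]
      constructor
      · intro h
        calc g * (x * t * x⁻¹) = x * ((x⁻¹ * g * x) * t) * x⁻¹ := by group
          _ = _ := by rw [h]; group
      · intro h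
        calc x⁻¹ * g * x * t = x⁻¹ * (g * (x * t * x⁻¹)) * x := by group
          _ = _ := by rw [h]; group
    refine doubleCover_congr ?_ Fi22U62Iso.nonsplit_double
    exact ((MulEquiv.subgroupCongr centralizer_eq.symm).trans
      ((MulAut.conj x).subgroupMap _)).trans (MulEquiv.subgroupCongr hc)

end Cfsg.Agent.Fi22Trans
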